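import Cfsg.Agent.H198.FC.DefsB

/-!
# S5764, B-ASM: the assembly for the unitary and symplectic groups (helper342)
-/

set_option autoImplicit false

namespace Cfsg.Agent.H342.FC

open Cfsg.Agent.H198.FC

universe u v

/-- **B-ASM** -/
theorem thmB_of (h0 : StmtBS00.{u, v}) (hP : StmtBPar.{u, v}) (h1 : StmtBC1.{u, v}) (h2 : StmtBC2.{u, v})
    (h2' : StmtBC2'.{u, v}) (h3 : StmtBC3.{u, v}) (h4 : StmtBC4.{u, v}) (h6 : StmtBC6.{u, v})
    (hc : StmtBClass.{u, v}) : ThmB.{u, v} := by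
  intro K _ _ V _ _ _ b hb S hS hsol
  by_cases hI : S ⊓ IN K V = ⊥
  · exact h0 K V b hb S hS hsol hI
  · rcases hc K V b hb S hS hsol hI with h | ⟨hT, h | h | h | h | h | h⟩
    · exact hP K V b hb S hS hsol h
    · exact h1 K V b hb S hS hsol hT h
    · obtain ⟨k, d, e, hk, hd, he, hadj, hr, hf⟩ := h
      exact h2 K V b hb S hS hsol k d e hk hd he hadj hr hf
    · obtain ⟨e, he, hadj, hf⟩ := h
      exact h2' K V b hb S hS hsol e he hadj hf
    · obtain ⟨E, hE, hp, hadj, hf⟩ := h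
      exact h3 K V b hb S hS hsol E hE hp hadj hf
    · obtain ⟨u', y, Φ, hu, hy, hadj, hf⟩ := h
      exact h4 K V b hb S hS hsol u' y Φ hu hy hadj hf
    · obtain ⟨A, r, a, hA⟩ := h
      exact h6 K V b hb S hS hsol A r a hA

end Cfsg.Agent.H342.FC
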